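import Cfsg.Agent.H655.Mono.Abs
import Cfsg.Agent.H496.Mono.Base
import Cfsg.Agent.H46.Gen.A2Hom
import Cfsg.Agent.OddHalf.LongSL.Chev
import Cfsg.Agent.BpExc.NChev

/-!
# S2187, X4: the homomorphism `SL₂(k) → ⟨X_a, X_{-a}⟩` of a long root (helper655)

* `exists_psi` : `a` long, `γ a = ± a` : `ψ : SL₂(k) → ⟨X_a, X_{-a}⟩` onto, kernel in `± 1`, `τ (ψ A) = ψ (Fr A)`; the
  elements of `N(T)` fixing `a` act by diagonal matrices in a fixed frame;
* `fix_form` : the `r`-elements of `⟨X_a, X_{-a}⟩` fixed by `τ` are the `ψ A`, `Fr A = A`.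
-/

set_option autoImplicit false
set_option linter.unusedSectionVars false

namespace Cfsg.Agent.H655.Mono

open CoxeterSystem Cfsg Cfsg.Lie Cfsg.Lie.ChevalleyDatum
open Cfsg.Agent.ChevalleyStructure Cfsg.Agent.ChevalleyStructure.Elts Cfsg.Agent.ChevalleyStructure.CoxeterGeom
  Cfsg.Agent.ChevalleyStructure.CoxeterGeomTypes Cfsg.Agent.ChevalleyStructure.NPerm
open Cfsg.Agent.Tits.Roots Cfsg.Agent.Tits.Core Cfsg.Agent.Nodes Cfsg.Agent.Nodes.Reps Cfsg.Agent.Nodes.BNOf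
  Cfsg.Agent.Nodes.SubComb Cfsg.Agent.Nodes.RGDChev Cfsg.Agent.Nodes.Bruhat Cfsg.Agent.Nodes.Coroot
open Cfsg.Agent.KFacts.RgdField Cfsg.Agent.KFacts.RgdChevCoord
open Cfsg.Agent.BpExc Cfsg.Agent.BpExc.TorCent Cfsg.Agent.BpExc.TorChev Cfsg.Agent.BpExc.Tow
  Cfsg.Agent.BpExc.TowChev Cfsg.Agent.BpExc.Fr Cfsg.Agent.BpExc.LangFr
open Cfsg.Agent.H469.Exc Cfsg.Agent.H316.U6 Cfsg.Agent.H818.Gen Cfsg.Agent.H818.Mono Cfsg.Agent.H496.Mono
open Cfsg.Agent.H225.Gen (LL LL_rep LL_root LL_neg LL_long th_mem sr_nd_mem)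
open Cfsg.Agent.H818.StrP.UTab
open Cfsg.Agent.H818.StrP.UAct (nd)
open Cfsg.Agent.ChevalleyStructure.SL2Hom (up lo mem_closure_SL2)
open Cfsg.Agent.OddHalf.LongSL.Chev (phi phi_up phi_lo phi_eq_one)

/-! ### the relation of the constants -/

section SL

variable {k : Type} [Field k]

theorem weyl_rel : (up (1 : k) * lo (-1) * up 1) * up 1 = lo (-1) * (up (1 : k) * lo (-1) * up 1) := by
  apply Subtype.ext
  show !![(1 : k), 1; 0, 1] * !![(1 : k), 0; -1, 1] * !![(1 : k), 1; 0, 1] * !![(1 : k), 1; 0, 1] =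
    !![(1 : k), 0; -1, 1] * (!![(1 : k), 1; 0, 1] * !![(1 : k), 0; -1, 1] * !![(1 : k), 1; 0, 1])
  ext i j
  fin_cases i <;> fin_cases j <;> simp [Matrix.mul_apply, Fin.sum_univ_two]

/-- the constants of a homomorphism -/
theorem const_eq {c d : k} (h : (up c * lo (-d) * up c) * up c = lo (-d) * (up c * lo (-d) * up c) ∨
    (up c * lo (-d) * up c) * up c = -(lo (-d) * (up c * lo (-d) * up c))) (hd : d ≠ 0) : c * d = 1 := by
  have e1 : ((up c * lo (-d) * up c) * up c).1 =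
      !![1 - c * d, c * (1 - c * d) + c * (2 - c * d); -d, 1 - c * d - c * d] := by
    show !![(1 : k), c; 0, 1] * !![(1 : k), 0; -d, 1] * !![(1 : k), c; 0, 1] * !![(1 : k), c; 0, 1] = _
    ext i j
    fin_cases i <;> fin_cases j <;> simp [Matrix.mul_apply, Fin.sum_univ_two] <;> ring
  have e2 : (lo (-d) * (up c * lo (-d) * up c)).1 =
      !![1 - c * d, c * (2 - c * d); -d * (1 - c * d) - d, -c * d * (2 - c * d) + 1 - c * d] := by
    show !![(1 : k), 0; -d, 1] * (!![(1 : k), c; 0, 1] * !![(1 : k), 0; -d, 1] * !![(1 : k), c; 0, 1]) = _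
    ext i j
    fin_cases i <;> fin_cases j <;> simp [Matrix.mul_apply, Fin.sum_univ_two] <;> ring
  rcases h with h | h
  · have h1 := congrArg (fun A : Matrix.SpecialLinearGroup (Fin 2) k => A.1 1 0) h
    simp only [e1, e2] at h1
    have h2 : -d = -d * (1 - c * d) - d := by simpa using h1
    have h3 : d * (1 - c * d) = 0 := by linear_combination h2
    have h4 := (mul_eq_zero.1 h3).resolve_left hd
    linear_combination -h4
  · have h1 := congrArg (fun A : Matrix.SpecialLinearGroup (Fin 2) k => A.1 1 0) h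
    have h2 := congrArg (fun A : Matrix.SpecialLinearGroup (Fin 2) k => A.1 0 0) h
    simp only [e1, e2, Matrix.SpecialLinearGroup.coe_neg, Matrix.neg_apply] at h1 h2
    have h1' : -d = -(-d * (1 - c * d) - d) := by simpa using h1
    have h2' : 1 - c * d = -(1 - c * d) := by simpa using h2
    have h3 : d * (3 - c * d) = 0 := by linear_combination -h1'
    have h4 := (mul_eq_zero.1 h3).resolve_left hd
    have h5 : (2 : k) * (1 - c * d) = 0 := by linear_combination h2'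
    rcases mul_eq_zero.1 h5 with h6 | h6
    · linear_combination h6 - h4
    · linear_combination -h6

end SL

variable {D : ChevalleyDatum} {l : ℕ} {M : CoxeterMatrix (Fin l)} (hp : IsType D l M)

section Node

variable {k : Type} [Field k] (i0 : Fin l)

theorem phi_up' (a : k) : phi hp k i0 (up a) = xc hp (sr i0) a := by
  apply Subtype.ext
  rw [phi_up]
  have h1 := coe_xc (K := k) hp (simple_lt hp.inList (lt_rank hp i0)) a
  rw [vec_simple hp] at h1
  exact h1.symm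

theorem phi_lo' (a : k) : phi hp k i0 (lo a) = xc hp (-sr i0) a := by
  apply Subtype.ext
  rw [phi_lo]
  have h0 := simple_lt hp.inList (lt_rank hp i0)
  have h1 := coe_xc (K := k) hp (neg_lt hp.inList h0) a
  rw [vec_neg hp h0, vec_simple hp] at h1
  exact h1.symm

theorem phi_ker {A : Matrix.SpecialLinearGroup (Fin 2) k} (hA : phi hp k i0 A = 1) : A = 1 ∨ A = -1 := by
  have hr := simple_lt hp.inList (lt_rank hp i0)
  have hg' : SL2Hom.phi (SL2All.good_of_mem D hp.inList (D.simple i0) hr) k A = 1 := congrArg Subtype.val hA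
  exact phi_eq_one _ hg'

/-- automorphisms multiplying the root elements by constants -/
theorem hom_form {α : MulAut ↥(D.group k)} {φ : k →+* k} {c d : k} (hc : c ≠ 0) (hd : d ≠ 0)
    (h1 : ∀ t, α (xc hp (sr i0) t) = xc hp (sr i0) (c * φ t))
    (h2 : ∀ t, α (xc hp (-sr i0) t) = xc hp (-sr i0) (d * φ t)) (A : Matrix.SpecialLinearGroup (Fin 2) k) :
    α (phi hp k i0 A) = phi hp k i0 (dc c hc (Matrix.SpecialLinearGroup.map φ A)) := by
  have h1' : ∀ t, α (phi hp k i0 (up t)) = phi hp k i0 (up (c * φ t)) := fun t => by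
    rw [phi_up', h1, phi_up']
  have h2' : ∀ t, α (phi hp k i0 (lo t)) = phi hp k i0 (lo (d * φ t)) := fun t => by
    rw [phi_lo', h2, phi_lo']
  have hneg : φ (-1) = -1 := by rw [map_neg, map_one]
  have hcd : c * d = 1 := by
    refine const_eq ?_ hd
    have h3 := congrArg (fun A => α (phi hp k i0 A)) (weyl_rel (k := k))
    simp only [map_mul, h1', h2', hneg, map_one, mul_one, mul_neg] at h3
    rw [← map_mul, ← map_mul, ← map_mul, ← map_mul] at h3
    have h4 : phi hp k i0 ((up c * lo (-d) * up c * up c) * (lo (-d) * (up c * lo (-d) * up c))⁻¹) = 1 := by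
      rw [map_mul, map_inv, h3, mul_inv_cancel]
    rcases phi_ker hp i0 h4 with h5 | h5
    · exact Or.inl (mul_inv_eq_one.1 h5)
    · right
      rw [mul_inv_eq_iff_eq_mul, neg_one_mul] at h5
      exact h5
  have key : (α.toMonoidHom).comp (phi hp k i0) =
      (phi hp k i0).comp ((dc c hc).comp (Matrix.SpecialLinearGroup.map φ)) := by
    refine hom_ext (fun a => ?_) (fun a => ?_)
    · show α (phi hp k i0 (up a)) = phi hp k i0 (dc c hc (Matrix.SpecialLinearGroup.map φ (up a)))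
      rw [map_up, dc_up, h1']
    · show α (phi hp k i0 (lo a)) = phi hp k i0 (dc c hc (Matrix.SpecialLinearGroup.map φ (lo a)))
      rw [map_lo, dc_lo, h2']
      have h5 : c⁻¹ = d := by rw [inv_eq_iff_eq_inv]; exact eq_inv_of_mul_eq_one_left hcd
      rw [h5]
  exact DFunLike.congr_fun key A

end Node

variable (r : ℕ) [Fact r.Prime] (i0 : Fin l)

theorem mem_X {a : Fin l → ℤ} (ha : IsRoot M.toCoxeterSystem hp.isCartan a) {y : ↥(D.group (KK r))} :
    y ∈ XX D l (KK r) a ↔ ∃ t, xc hp a t = y :=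
  ((coordsL hp M.toCoxeterSystem (locFin r) r).coord a ha).mem y

theorem phi_range' {k : Type} [Field k] (hk : LocFin k) (r : ℕ) [Fact r.Prime] [CharP k r] (i0 : Fin l) :
    (phi hp k i0).range = RGD.Sup (XX D l k) {sr i0, -sr i0} := by
  have C := coordsL hp M.toCoxeterSystem hk r
  have hr := isRoot_sr M.toCoxeterSystem hp.isCartan i0
  have m1 : sr i0 ∈ ({sr i0, -sr i0} : Set (Fin l → ℤ)) := Or.inl rfl
  have m2 : -sr i0 ∈ ({sr i0, -sr i0} : Set (Fin l → ℤ)) := Or.inr rfl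
  apply le_antisymm
  · have h3 : Subgroup.closure (Set.range (up (F := k)) ∪ Set.range (lo (F := k))) ≤
        (RGD.Sup (XX D l k) {sr i0, -sr i0}).comap (phi hp k i0) := by
      rw [Subgroup.closure_le]
      rintro _ (⟨a, rfl⟩ | ⟨a, rfl⟩)
      · show phi hp k i0 (up a) ∈ RGD.Sup (XX D l k) {sr i0, -sr i0}
        rw [phi_up']
        exact RGD.le_Sup m1 (((C.coord _ hr).mem _).2 ⟨a, rfl⟩)
      · show phi hp k i0 (lo a) ∈ RGD.Sup (XX D l k) {sr i0, -sr i0}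
        rw [phi_lo']
        exact RGD.le_Sup m2 (((C.coord _ hr.neg).mem _).2 ⟨a, rfl⟩)
    rintro _ ⟨A, rfl⟩
    exact h3 (mem_closure_SL2 A)
  · refine RGD.Sup_le ?_
    rintro a (rfl | rfl)
    · intro y hy
      obtain ⟨t, rfl⟩ := ((C.coord _ hr).mem _).1 hy
      exact ⟨up t, phi_up' hp i0 t⟩
    · intro y hy
      obtain ⟨t, rfl⟩ := ((C.coord _ hr.neg).mem _).1 hy
      exact ⟨lo t, phi_lo' hp i0 t⟩

theorem phi_range : (phi hp (KK r) i0).range = RGD.Sup (XX D l (KK r)) {sr i0, -sr i0} :=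
  phi_range' hp (locFin r) r i0

/-- the representative of the simple reflection -/
theorem nc_mem : nc hp (KK r) i0 ∈ (phi hp (KK r) i0).range := by
  refine ⟨up 1 * lo (-1) * up 1, ?_⟩
  apply Subtype.ext
  show _ = nG hp.inList (D.simple i0) (1 : KK r)
  rw [map_mul, map_mul, Subgroup.coe_mul, Subgroup.coe_mul, phi_up, phi_lo, nG_def, inv_one, mul_assoc]

theorem nr_nc : NR hp r (M.toCoxeterSystem.simple i0) (nc hp (KK r) i0) := rp_simple _ _ i0

variable {hp r i0} {e : ℕ} {τ : MulAut ↥(D.group (KK r))} {γ : (Fin l → ℤ) ≃+ (Fin l → ℤ)}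

/-- the case `γ α = α` -/
theorem act_pos (hτ : IsFrob r e τ) (F : Fr M.toCoxeterSystem hp.isCartan (TT D (KK r)) (XX D l (KK r)) τ γ)
    (hg : γ (sr i0) = sr i0) : ∃ c, ∃ hc : c ≠ 0, ∀ A,
    τ (phi hp (KK r) i0 A) = phi hp (KK r) i0 (dc c hc (Matrix.SpecialLinearGroup.map (iterateFrobenius (KK r) r e) A)) := by
  have hr := isRoot_sr M.toCoxeterSystem hp.isCartan i0
  obtain ⟨c, hc, h1⟩ := HX.fr_xc hp M.toCoxeterSystem hτ F hr
  obtain ⟨d, hd, h2⟩ := HX.fr_xc hp M.toCoxeterSystem hτ F hr.neg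
  rw [hg] at h1
  rw [map_neg, hg] at h2
  refine ⟨c, hc, hom_form hp i0 hc hd (fun t => ?_) (fun t => ?_)⟩
  · rw [h1, iterateFrobenius_def]
  · rw [h2, iterateFrobenius_def]

/-- `dc` is inner -/
theorem dc_inner {k : Type} [Field k] [IsAlgClosed k] {c : k} (hc : c ≠ 0) :
    ∃ C : Matrix.SpecialLinearGroup (Fin 2) k, ∀ A, dc c hc A = C * A * C⁻¹ := by
  obtain ⟨s, hs2⟩ := IsAlgClosed.exists_pow_nat_eq c (n := 2) (by norm_num)
  have hs : s ≠ 0 := by
    rintro rfl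
    apply hc
    rw [← hs2]; norm_num
  exact ⟨dg s hs, fun A => (dg_conj s hs hc hs2 A).symm⟩

theorem rep_sr (i : Fin l) : rep M.toCoxeterSystem hp.isCartan (M.toCoxeterSystem.simple i) (sr i) = -sr i := by
  have := finite_W hp M.toCoxeterSystem
  rw [rep_simple_eq, ← cpr_sr M.toCoxeterSystem hp.isCartan,
    cpr_self M.toCoxeterSystem hp.isCartan (isRoot_sr M.toCoxeterSystem hp.isCartan i)]
  module

/-- the case `γ α = ± α` -/
theorem act_pm (hτ : IsFrob r e τ) (F : Fr M.toCoxeterSystem hp.isCartan (TT D (KK r)) (XX D l (KK r)) τ γ)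
    (hg : γ (sr i0) = sr i0 ∨ γ (sr i0) = -sr i0) : ∃ c0 ∈ (phi hp (KK r) i0).range, ∀ A,
    τ (phi hp (KK r) i0 A) = c0 * phi hp (KK r) i0 (Matrix.SpecialLinearGroup.map (iterateFrobenius (KK r) r e) A) * c0⁻¹ := by
  have key : ∀ {τ : MulAut ↥(D.group (KK r))} {γ : (Fin l → ℤ) ≃+ (Fin l → ℤ)}, IsFrob r e τ →
      Fr M.toCoxeterSystem hp.isCartan (TT D (KK r)) (XX D l (KK r)) τ γ → γ (sr i0) = sr i0 →
      ∃ c0 ∈ (phi hp (KK r) i0).range, ∀ A, τ (phi hp (KK r) i0 A) =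
        c0 * phi hp (KK r) i0 (Matrix.SpecialLinearGroup.map (iterateFrobenius (KK r) r e) A) * c0⁻¹ := by
    intro τ γ hτ F hg
    obtain ⟨c, hc, h1⟩ := act_pos hτ F hg
    obtain ⟨C, hC⟩ := dc_inner hc
    refine ⟨phi hp (KK r) i0 C, ⟨C, rfl⟩, fun A => ?_⟩
    rw [h1, hC, map_mul, map_mul, map_inv]
  rcases hg with hg | hg
  · exact key hτ F hg
  · obtain ⟨m, hmdef⟩ : ∃ m, m = nc hp (KK r) i0 := ⟨_, rfl⟩
    have hm : NR hp r (M.toCoxeterSystem.simple i0) m := by rw [hmdef]; exact nr_nc hp r i0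
    have hm' : m ∈ (phi hp (KK r) i0).range := by rw [hmdef]; exact nc_mem hp r i0
    obtain ⟨c0, hc0, h1⟩ := key (hτ.conj_mul m) ((nr_frame hm).mul F) (by
      show rep M.toCoxeterSystem hp.isCartan (M.toCoxeterSystem.simple i0) (γ (sr i0)) = sr i0
      rw [hg, map_neg, rep_sr (hp := hp), neg_neg])
    refine ⟨m⁻¹ * c0, mul_mem (inv_mem hm') hc0, fun A => ?_⟩
    have h2 : m * τ (phi hp (KK r) i0 A) * m⁻¹ =
        c0 * phi hp (KK r) i0 (Matrix.SpecialLinearGroup.map (iterateFrobenius (KK r) r e) A) * c0⁻¹ := h1 A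
    calc τ (phi hp (KK r) i0 A) = m⁻¹ * (m * τ (phi hp (KK r) i0 A) * m⁻¹) * m := by group
      _ = m⁻¹ * (c0 * phi hp (KK r) i0 (Matrix.SpecialLinearGroup.map (iterateFrobenius (KK r) r e) A) * c0⁻¹) * m := by
          rw [h2]
      _ = _ := by group

/-- **Frobenius maps on a root `SL₂`.** -/
theorem frame_tau (he : 0 < e) (hτ : IsFrob r e τ)
    (F : Fr M.toCoxeterSystem hp.isCartan (TT D (KK r)) (XX D l (KK r)) τ γ)
    (hg : γ (sr i0) = sr i0 ∨ γ (sr i0) = -sr i0) : ∃ y ∈ (phi hp (KK r) i0).range, ∀ A,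
    τ (y * phi hp (KK r) i0 A * y⁻¹) =
      y * phi hp (KK r) i0 (Matrix.SpecialLinearGroup.map (iterateFrobenius (KK r) r e) A) * y⁻¹ := by
  obtain ⟨c0, hc0, h1⟩ := act_pm hτ F hg
  have hr := isRoot_sr M.toCoxeterSystem hp.isCartan i0
  have h2 : c0⁻¹ ∈ RGD.Sup (XX D l (KK r)) {sr i0, -sr i0} := by
    rw [← phi_range hp r i0]; exact inv_mem hc0
  obtain ⟨y, hy, h3⟩ := lang_fr hp M.toCoxeterSystem he hτ F (S := {sr i0, -sr i0}) (by
    rintro a (rfl | rfl)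
    · exact hr
    · exact hr.neg) (by
    rintro a (rfl | rfl)
    · exact hg
    · rcases hg with hg | hg
      · right; rw [map_neg, hg]; rfl
      · left; rw [map_neg, hg, neg_neg]) h2
  rw [← phi_range hp r i0] at hy
  refine ⟨y, hy, fun A => ?_⟩
  have h4 : τ y = y * c0⁻¹ := by rw [h3]; group
  rw [map_mul, map_mul, map_inv, h1, h4]
  group

/-- a representative moving the long simple root to `a` -/
theorem exists_rp_long (h : HiList D) {a : Fin l → ℤ} (ha : a ∈ LL M.toCoxeterSystem hp) :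
    ∃ w n, NR hp r w n ∧ rep M.toCoxeterSystem hp.isCartan w (sr (nd h hp)) = a := by
  obtain ⟨u, hu⟩ := ha
  obtain ⟨v, hv⟩ := sr_nd_mem h hp M.toCoxeterSystem
  obtain ⟨n, -, hn⟩ := (tow (k := KK r) hp M.toCoxeterSystem (locFin r) r).exists_rp (u * v⁻¹)
  refine ⟨u * v⁻¹, n, hn, ?_⟩
  rw [hv, ← rep_mul_apply, inv_mul_cancel_right, hu]

/-- **The homomorphism `SL₂(k) → ⟨X_a, X_{-a}⟩`.** -/
theorem exists_psi (h : HiList D) (he : 0 < e) (hτ : IsFrob r e τ)
    (F : Fr M.toCoxeterSystem hp.isCartan (TT D (KK r)) (XX D l (KK r)) τ γ) {a : Fin l → ℤ}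
    (ha : a ∈ LL M.toCoxeterSystem hp) (hg : γ a = a ∨ γ a = -a) :
    ∃ (ψ : Matrix.SpecialLinearGroup (Fin 2) (KK r) →* ↥(D.group (KK r)))
      (U : Matrix.SpecialLinearGroup (Fin 2) (KK r)), ψ.range = RGD.Sup (XX D l (KK r)) {a, -a} ∧
      (∀ A, ψ A = 1 → A = 1 ∨ A = -1) ∧
      (∀ A, τ (ψ A) = ψ (Matrix.SpecialLinearGroup.map (iterateFrobenius (KK r) r e) A)) ∧
      ∀ y w, NR hp r w y → rep M.toCoxeterSystem hp.isCartan w a = a →
        ∃ c, ∃ hc : c ≠ 0, ∀ A, y * ψ A * y⁻¹ = ψ (U * dc c hc (U⁻¹ * A * U) * U⁻¹) := by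
  obtain ⟨w0, n0, hn0, hw0⟩ := exists_rp_long (r := r) h ha
  obtain ⟨i0, hi0⟩ : ∃ i0, i0 = nd h hp := ⟨_, rfl⟩
  rw [← hi0] at hw0
  have hr := isRoot_sr M.toCoxeterSystem hp.isCartan i0
  have F' := (nr_frame (nr_inv hn0)).mul (F.mul (nr_frame hn0))
  have hτ' : IsFrob r e (MulAut.conj n0⁻¹ * (τ * MulAut.conj n0)) := (hτ.mul (IsFrob.conj n0)).conj_mul n0⁻¹
  have hw0' : rep M.toCoxeterSystem hp.isCartan w0⁻¹ a = sr i0 := by
    rw [← hw0, ← rep_mul_apply, inv_mul_cancel, map_one, Module.End.one_apply]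
  obtain ⟨y0, ⟨U0, rfl⟩, h1⟩ := frame_tau (i0 := i0) he hτ' F' (by
    show rep M.toCoxeterSystem hp.isCartan w0⁻¹ (γ (rep M.toCoxeterSystem hp.isCartan w0 (sr i0))) = sr i0 ∨
      rep M.toCoxeterSystem hp.isCartan w0⁻¹ (γ (rep M.toCoxeterSystem hp.isCartan w0 (sr i0))) = -sr i0
    rw [hw0]
    rcases hg with hg | hg
    · left; rw [hg, hw0']
    · right; rw [hg, map_neg, hw0'])
  obtain ⟨ψ, hψ⟩ : ∃ ψ : Matrix.SpecialLinearGroup (Fin 2) (KK r) →* ↥(D.group (KK r)),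
      ∀ A, ψ A = n0 * phi hp (KK r) i0 (U0 * A * U0⁻¹) * n0⁻¹ :=
    ⟨(MulAut.conj n0).toMonoidHom.comp ((phi hp (KK r) i0).comp (MulAut.conj U0).toMonoidHom), fun _ => rfl⟩
  refine ⟨ψ, U0⁻¹, ?_, fun A hA => ?_, fun A => ?_, fun y w hy hw => ?_⟩
  · have h2 : (RGD.Sup (XX D l (KK r)) {sr i0, -sr i0}).map (MulAut.conj n0).toMonoidHom =
        RGD.Sup (XX D l (KK r)) {a, -a} := by
      refine (nr_frame hn0).map_Sup ?_ fun x => ?_
      · rintro x (rfl | rfl)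
        · exact hr
        · exact hr.neg
      · show rep M.toCoxeterSystem hp.isCartan w0 x = a ∨ rep M.toCoxeterSystem hp.isCartan w0 x = -a ↔
          x = sr i0 ∨ x = -sr i0
        have h3 : ∀ b, rep M.toCoxeterSystem hp.isCartan w0 x = b ↔ x = rep M.toCoxeterSystem hp.isCartan w0⁻¹ b := by
          intro b
          constructor
          · rintro rfl
            rw [← rep_mul_apply, inv_mul_cancel, map_one, Module.End.one_apply]
          · rintro rfl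
            rw [← rep_mul_apply, mul_inv_cancel, map_one, Module.End.one_apply]
        rw [h3, h3, map_neg, hw0']
    rw [← h2, ← phi_range hp r i0]
    ext y
    constructor
    · rintro ⟨A, rfl⟩
      exact ⟨_, ⟨U0 * A * U0⁻¹, rfl⟩, (hψ A).symm⟩
    · rintro ⟨_, ⟨A, rfl⟩, rfl⟩
      refine ⟨U0⁻¹ * A * U0, ?_⟩
      rw [hψ]
      have e : U0 * (U0⁻¹ * A * U0) * U0⁻¹ = A := by group
      rw [e]
      rfl
  · rw [hψ] at hA
    have h2 : phi hp (KK r) i0 (U0 * A * U0⁻¹) = 1 := by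
      have e : phi hp (KK r) i0 (U0 * A * U0⁻¹) = n0⁻¹ * (n0 * phi hp (KK r) i0 (U0 * A * U0⁻¹) * n0⁻¹) * n0 := by
        group
      rw [e, hA]; group
    rcases phi_ker hp i0 h2 with h3 | h3
    · left
      have e : A = U0⁻¹ * (U0 * A * U0⁻¹) * U0 := by group
      rw [e, h3]; group
    · right
      have e : A = U0⁻¹ * (U0 * A * U0⁻¹) * U0 := by group
      rw [e, h3, mul_neg, neg_mul, mul_one, inv_mul_cancel]
  · have h2 := h1 A
    have h3 : n0⁻¹ * τ (n0 * (phi hp (KK r) i0 U0 * phi hp (KK r) i0 A * (phi hp (KK r) i0 U0)⁻¹) * n0⁻¹) * n0⁻¹⁻¹ =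
        phi hp (KK r) i0 U0 * phi hp (KK r) i0 (Matrix.SpecialLinearGroup.map (iterateFrobenius (KK r) r e) A) *
          (phi hp (KK r) i0 U0)⁻¹ := h2
    rw [hψ, hψ, map_mul (phi hp (KK r) i0), map_mul (phi hp (KK r) i0), map_inv (phi hp (KK r) i0),
      map_mul (phi hp (KK r) i0), map_mul (phi hp (KK r) i0), map_inv (phi hp (KK r) i0), ← h3]
    group
  · have hy' : NR hp r (w0⁻¹ * w * w0⁻¹⁻¹) (n0⁻¹ * y * n0⁻¹⁻¹) := nr_conj hy (nr_inv hn0)
    obtain ⟨y', hy'def⟩ : ∃ y', y' = n0⁻¹ * y * n0⁻¹⁻¹ := ⟨_, rfl⟩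
    rw [← hy'def] at hy'
    have hfix : rep M.toCoxeterSystem hp.isCartan (w0⁻¹ * w * w0⁻¹⁻¹) (sr i0) = sr i0 := by
      rw [inv_inv, rep_mul_apply, rep_mul_apply, hw0, hw, hw0']
    have F1 := nr_frame hy'
    obtain ⟨c, hc, h2⟩ := HX.fr_xc hp M.toCoxeterSystem (IsFrob.conj (p := r) y') F1 hr
    obtain ⟨d, hd, h3⟩ := HX.fr_xc hp M.toCoxeterSystem (IsFrob.conj (p := r) y') F1 hr.neg
    rw [repAut_apply, hfix] at h2
    rw [repAut_apply, map_neg, hfix] at h3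
    have h4 := hom_form hp i0 (α := MulAut.conj y') (φ := RingHom.id (KK r)) hc hd
      (fun t => by rw [h2, pow_zero, pow_one]; rfl) (fun t => by rw [h3, pow_zero, pow_one]; rfl)
    have hid : ∀ A : Matrix.SpecialLinearGroup (Fin 2) (KK r),
        Matrix.SpecialLinearGroup.map (RingHom.id (KK r)) A = A := fun A => rfl
    refine ⟨c, hc, fun A => ?_⟩
    have h5 : y' * phi hp (KK r) i0 (U0 * A * U0⁻¹) * y'⁻¹ = phi hp (KK r) i0 (dc c hc (U0 * A * U0⁻¹)) := by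
      have := h4 (U0 * A * U0⁻¹)
      rw [hid] at this
      exact this
    have e1 : y = n0 * y' * n0⁻¹ := by rw [hy'def]; group
    rw [hψ, hψ, inv_inv]
    have e2 : U0 * (U0⁻¹ * dc c hc (U0 * A * U0⁻¹) * U0) * U0⁻¹ = dc c hc (U0 * A * U0⁻¹) := by group
    rw [e2, ← h5, e1]
    group

/-- **The `r`-elements of `⟨X_a, X_{-a}⟩` fixed by `τ`.** -/
theorem fix_form {k : Type*} [Field k] {r : ℕ} [hr : Fact r.Prime] [CharP k r] {Y : Type*} [Group Y] {φ : k →+* k}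
    {ψ : Matrix.SpecialLinearGroup (Fin 2) k →* Y} {τ : MulAut Y} (hr2 : r ≠ 2)
    (hker : ∀ A, ψ A = 1 → A = 1 ∨ A = -1) (hτ : ∀ A, τ (ψ A) = ψ (Matrix.SpecialLinearGroup.map φ A)) {u : Y}
    (hu : u ∈ ψ.range) (hτu : τ u = u) (hur : ∃ j : ℕ, u ^ r ^ j = 1) :
    ∃ A, Matrix.SpecialLinearGroup.map φ A = A ∧ ψ A = u := by
  obtain ⟨A, rfl⟩ := hu
  obtain ⟨j, hj⟩ := hur
  have hodd : Odd (r ^ j) := (hr.out.odd_of_ne_two hr2).pow
  have h2 : (2 : k) ≠ 0 := two_ne hr2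
  have key : ∀ B : Matrix.SpecialLinearGroup (Fin 2) k, ψ B = ψ A → B ^ r ^ j = 1 →
      Matrix.SpecialLinearGroup.map φ B = B := by
    intro B hB hBr
    have h3 : ψ (Matrix.SpecialLinearGroup.map φ B * B⁻¹) = 1 := by
      rw [map_mul, ← hτ, map_inv, hB, hτu, mul_inv_cancel]
    rcases hker _ h3 with h4 | h4
    · exact mul_inv_eq_one.1 h4
    · exfalso
      rw [mul_inv_eq_iff_eq_mul, neg_one_mul] at h4
      have h5 := congrArg (Matrix.SpecialLinearGroup.map φ) hBr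
      rw [map_pow, h4, neg_one_pow_odd hodd, hBr, map_one] at h5
      exact neg_one_ne h2 h5.symm
  rcases hker (A ^ r ^ j) (by rw [map_pow, hj]) with h3 | h3
  · exact ⟨A, key A rfl h3, rfl⟩
  · have h4 : (-A) ^ r ^ j = 1 := by rw [neg_one_pow_odd hodd, h3, neg_neg]
    have h5 : ψ (-A) = ψ A := by
      have h6 : (ψ (-A)) ^ r ^ j = 1 := by rw [← map_pow, h4, map_one]
      have h7 : ψ (-1 : Matrix.SpecialLinearGroup (Fin 2) k) = 1 := by
        rw [← h3, map_pow, hj]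
      rw [← neg_one_mul, map_mul, h7, one_mul]
    exact ⟨-A, key (-A) h5 h4, h5⟩

end Cfsg.Agent.H655.Mono
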