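import Cfsg.Agent.S2540
import Cfsg.Agent.ChevalleyStructure.SL2Hom
import Cfsg.Agent.TwoFusion.SLTwoFacts
import Cfsg.Agent.S0276

/-!
# S2187, orthogonal orbits: facts on `SL₂` (helper655)

* `dc c` : conjugation by `diag (c, 1)`; `dg s = diag (s, s⁻¹)`;
* `eq_top_of_normal` : a normal subgroup of `SL₂(F₀)`, `F₀` finite of odd characteristic `r`, containing an element of odd
  prime order `p ≠ r` is everything;
* `eq_one_or_neg` : an element of `SL₂(k)` commuting up to sign with `up 1`, `lo 1` is `± 1`;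
* `exists_of_fix` : the fixed points of a Frobenius map.
-/

set_option autoImplicit false
set_option linter.unusedSectionVars false

namespace Cfsg.Agent.H655.Mono

open Cfsg.Agent.ChevalleyStructure.SL2Hom (up lo mem_closure_SL2)

section SL

variable {k : Type*} [Field k]

/-- conjugation by `diag (c, 1)` -/
def dc (c : k) (hc : c ≠ 0) : Matrix.SpecialLinearGroup (Fin 2) k →* Matrix.SpecialLinearGroup (Fin 2) k :=
  MonoidHom.mk' (fun A => ⟨!![A.1 0 0, c * A.1 0 1; c⁻¹ * A.1 1 0, A.1 1 1], by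
    have h1 : A.1 0 0 * A.1 1 1 - A.1 0 1 * A.1 1 0 = 1 := by rw [← Matrix.det_fin_two]; exact A.2
    rw [Matrix.det_fin_two_of]
    have h2 : c * A.1 0 1 * (c⁻¹ * A.1 1 0) = A.1 0 1 * A.1 1 0 := by field_simp
    rw [h2, h1]⟩) (by
    intro A B
    apply Subtype.ext
    show !![(A * B).1 0 0, c * (A * B).1 0 1; c⁻¹ * (A * B).1 1 0, (A * B).1 1 1] =
      !![A.1 0 0, c * A.1 0 1; c⁻¹ * A.1 1 0, A.1 1 1] * !![B.1 0 0, c * B.1 0 1; c⁻¹ * B.1 1 0, B.1 1 1]
    rw [Matrix.SpecialLinearGroup.coe_mul]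
    ext i j
    fin_cases i <;> fin_cases j <;>
      simp [Matrix.mul_apply, Fin.sum_univ_two] <;> field_simp)

theorem dc_apply (c : k) (hc : c ≠ 0) (A : Matrix.SpecialLinearGroup (Fin 2) k) :
    (dc c hc A).1 = !![A.1 0 0, c * A.1 0 1; c⁻¹ * A.1 1 0, A.1 1 1] := rfl

theorem dc_up (c : k) (hc : c ≠ 0) (a : k) : dc c hc (up a) = up (c * a) := by
  apply Subtype.ext
  rw [dc_apply]
  show !![(!![1, a; 0, 1] : Matrix (Fin 2) (Fin 2) k) 0 0, c * (!![1, a; 0, 1] : Matrix (Fin 2) (Fin 2) k) 0 1;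
    c⁻¹ * (!![1, a; 0, 1] : Matrix (Fin 2) (Fin 2) k) 1 0, (!![1, a; 0, 1] : Matrix (Fin 2) (Fin 2) k) 1 1] =
    !![1, c * a; 0, 1]
  simp

theorem dc_lo (c : k) (hc : c ≠ 0) (a : k) : dc c hc (lo a) = lo (c⁻¹ * a) := by
  apply Subtype.ext
  rw [dc_apply]
  show !![(!![1, 0; a, 1] : Matrix (Fin 2) (Fin 2) k) 0 0, c * (!![1, 0; a, 1] : Matrix (Fin 2) (Fin 2) k) 0 1;
    c⁻¹ * (!![1, 0; a, 1] : Matrix (Fin 2) (Fin 2) k) 1 0, (!![1, 0; a, 1] : Matrix (Fin 2) (Fin 2) k) 1 1] =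
    !![1, 0; c⁻¹ * a, 1]
  simp

/-- the diagonal matrices -/
def dg (s : k) (hs : s ≠ 0) : Matrix.SpecialLinearGroup (Fin 2) k :=
  ⟨!![s, 0; 0, s⁻¹], by rw [Matrix.det_fin_two_of, mul_inv_cancel₀ hs]; ring⟩

theorem dc_dg (c : k) (hc : c ≠ 0) (s : k) (hs : s ≠ 0) : dc c hc (dg s hs) = dg s hs := by
  apply Subtype.ext
  rw [dc_apply]
  show !![(!![s, 0; 0, s⁻¹] : Matrix (Fin 2) (Fin 2) k) 0 0, c * (!![s, 0; 0, s⁻¹] : Matrix (Fin 2) (Fin 2) k) 0 1;
    c⁻¹ * (!![s, 0; 0, s⁻¹] : Matrix (Fin 2) (Fin 2) k) 1 0, (!![s, 0; 0, s⁻¹] : Matrix (Fin 2) (Fin 2) k) 1 1] =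
    !![s, 0; 0, s⁻¹]
  simp

theorem dg_mul (s t : k) (hs : s ≠ 0) (ht : t ≠ 0) : dg s hs * dg t ht = dg (s * t) (mul_ne_zero hs ht) := by
  apply Subtype.ext
  rw [Matrix.SpecialLinearGroup.coe_mul]
  show !![s, 0; 0, s⁻¹] * !![t, 0; 0, t⁻¹] = !![s * t, 0; 0, (s * t)⁻¹]
  ext i j
  fin_cases i <;> fin_cases j <;> simp [Matrix.mul_apply, Fin.sum_univ_two, mul_comm]

theorem dg_congr {s t : k} (hs : s ≠ 0) (ht : t ≠ 0) (h : s = t) : dg s hs = dg t ht := by subst h; rfl

theorem dg_one : dg (1 : k) one_ne_zero = 1 := by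
  apply Subtype.ext
  show !![(1 : k), 0; 0, 1⁻¹] = 1
  rw [inv_one]
  exact Matrix.one_fin_two.symm

theorem dg_pow (s : k) (hs : s ≠ 0) (n : ℕ) : dg s hs ^ n = dg (s ^ n) (pow_ne_zero n hs) := by
  induction n with
  | zero =>
    rw [pow_zero, dg_congr (pow_ne_zero 0 hs) one_ne_zero (pow_zero s), dg_one]
  | succ n ih => rw [pow_succ, ih, dg_mul]; exact dg_congr _ _ (pow_succ s n).symm

theorem dg_conj (s : k) (hs : s ≠ 0) {c : k} (hc : c ≠ 0) (hsc : s ^ 2 = c) (A : Matrix.SpecialLinearGroup (Fin 2) k) :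
    dg s hs * A * (dg s hs)⁻¹ = dc c hc A := by
  subst hsc
  rw [mul_inv_eq_iff_eq_mul]
  apply Subtype.ext
  rw [Matrix.SpecialLinearGroup.coe_mul, Matrix.SpecialLinearGroup.coe_mul, dc_apply]
  show !![s, 0; 0, s⁻¹] * A.1 = !![A.1 0 0, s ^ 2 * A.1 0 1; (s ^ 2)⁻¹ * A.1 1 0, A.1 1 1] * !![s, 0; 0, s⁻¹]
  ext i j
  fin_cases i <;> fin_cases j <;> simp [Matrix.mul_apply, Fin.sum_univ_two] <;> field_simp

theorem dg_ne_one {s : k} (hs : s ≠ 0) (h1 : s ≠ 1) : dg s hs ≠ 1 := by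
  intro h
  have h2 := congrArg (fun A : Matrix.SpecialLinearGroup (Fin 2) k => A.1 0 0) h
  have h3 : s = 1 := by simpa [dg] using h2
  exact h1 h3

theorem dc_eq {c : k} {hc : c ≠ 0} (h : c = 1) (A : Matrix.SpecialLinearGroup (Fin 2) k) : dc c hc A = A := by
  subst h
  apply Subtype.ext
  rw [dc_apply]
  ext i j
  fin_cases i <;> fin_cases j <;> simp

/-- two homomorphisms of `SL₂` agreeing on the unitriangular elements -/
theorem hom_ext {Y : Type*} [Group Y] {f g : Matrix.SpecialLinearGroup (Fin 2) k →* Y} (h1 : ∀ a, f (up a) = g (up a))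
    (h2 : ∀ a, f (lo a) = g (lo a)) : f = g := by
  ext A
  have h3 : Subgroup.closure (Set.range (up (F := k)) ∪ Set.range (lo (F := k))) ≤ f.eqLocus g := by
    rw [Subgroup.closure_le]
    rintro _ (⟨a, rfl⟩ | ⟨a, rfl⟩)
    · exact h1 a
    · exact h2 a
  exact h3 (mem_closure_SL2 A)

theorem map_up {K : Type*} [Field K] (j : k →+* K) (a : k) :
    Matrix.SpecialLinearGroup.map j (up a : Matrix.SpecialLinearGroup (Fin 2) k) = up (j a) := by
  apply Subtype.ext
  ext i i'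
  show j ((!![1, a; 0, 1] : Matrix (Fin 2) (Fin 2) k) i i') = (!![1, j a; 0, 1] : Matrix (Fin 2) (Fin 2) K) i i'
  fin_cases i <;> fin_cases i' <;> simp

theorem map_lo {K : Type*} [Field K] (j : k →+* K) (a : k) :
    Matrix.SpecialLinearGroup.map j (lo a : Matrix.SpecialLinearGroup (Fin 2) k) = lo (j a) := by
  apply Subtype.ext
  ext i i'
  show j ((!![1, 0; a, 1] : Matrix (Fin 2) (Fin 2) k) i i') = (!![1, 0; j a, 1] : Matrix (Fin 2) (Fin 2) K) i i'
  fin_cases i <;> fin_cases i' <;> simp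

theorem up_add (a b : k) : (up (a + b) : Matrix.SpecialLinearGroup (Fin 2) k) = up a * up b := by
  apply Subtype.ext
  rw [Matrix.SpecialLinearGroup.coe_mul]
  show !![(1 : k), a + b; 0, 1] = !![(1 : k), a; 0, 1] * !![(1 : k), b; 0, 1]
  ext i j
  fin_cases i <;> fin_cases j <;> simp [Matrix.mul_apply, Fin.sum_univ_two, add_comm]

theorem lo_add (a b : k) : (lo (a + b) : Matrix.SpecialLinearGroup (Fin 2) k) = lo a * lo b := by
  apply Subtype.ext
  rw [Matrix.SpecialLinearGroup.coe_mul]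
  show !![(1 : k), 0; a + b, 1] = !![(1 : k), 0; a, 1] * !![(1 : k), 0; b, 1]
  ext i j
  fin_cases i <;> fin_cases j <;> simp [Matrix.mul_apply, Fin.sum_univ_two]

theorem up_zero : (up 0 : Matrix.SpecialLinearGroup (Fin 2) k) = 1 := by
  apply Subtype.ext
  show !![(1 : k), 0; 0, 1] = 1
  exact Matrix.one_fin_two.symm

theorem lo_zero : (lo 0 : Matrix.SpecialLinearGroup (Fin 2) k) = 1 := by
  apply Subtype.ext
  show !![(1 : k), 0; 0, 1] = 1
  exact Matrix.one_fin_two.symm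

theorem up_pow (a : k) (n : ℕ) : (up a : Matrix.SpecialLinearGroup (Fin 2) k) ^ n = up (n * a) := by
  induction n with
  | zero => rw [pow_zero, Nat.cast_zero, zero_mul, up_zero]
  | succ n ih => rw [pow_succ, ih, ← up_add]; congr 1; push_cast; ring

theorem lo_pow (a : k) (n : ℕ) : (lo a : Matrix.SpecialLinearGroup (Fin 2) k) ^ n = lo (n * a) := by
  induction n with
  | zero => rw [pow_zero, Nat.cast_zero, zero_mul, lo_zero]
  | succ n ih => rw [pow_succ, ih, ← lo_add]; congr 1; push_cast; ring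

theorem up_ord (r : ℕ) [CharP k r] (a : k) : (up a : Matrix.SpecialLinearGroup (Fin 2) k) ^ r = 1 := by
  rw [up_pow, CharP.cast_eq_zero, zero_mul, up_zero]

theorem lo_ord (r : ℕ) [CharP k r] (a : k) : (lo a : Matrix.SpecialLinearGroup (Fin 2) k) ^ r = 1 := by
  rw [lo_pow, CharP.cast_eq_zero, zero_mul, lo_zero]

/-- commuting up to sign with `up 1`, `lo 1` -/
theorem eq_one_or_neg (h2 : (2 : k) ≠ 0) {V : Matrix.SpecialLinearGroup (Fin 2) k}
    (h3 : V * up 1 = up 1 * V ∨ V * up 1 = -(up 1 * V)) (h4 : V * lo 1 = lo 1 * V ∨ V * lo 1 = -(lo 1 * V)) :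
    V = 1 ∨ V = -1 := by
  have hd : V.1 0 0 * V.1 1 1 - V.1 0 1 * V.1 1 0 = 1 := by rw [← Matrix.det_fin_two]; exact V.2
  have e1 : (V * up 1).1 = !![V.1 0 0, V.1 0 0 + V.1 0 1; V.1 1 0, V.1 1 0 + V.1 1 1] := by
    rw [Matrix.SpecialLinearGroup.coe_mul]
    show V.1 * !![(1 : k), 1; 0, 1] = _
    ext i j
    fin_cases i <;> fin_cases j <;> simp [Matrix.mul_apply, Fin.sum_univ_two]
  have e2 : (up 1 * V).1 = !![V.1 0 0 + V.1 1 0, V.1 0 1 + V.1 1 1; V.1 1 0, V.1 1 1] := by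
    rw [Matrix.SpecialLinearGroup.coe_mul]
    show !![(1 : k), 1; 0, 1] * V.1 = _
    ext i j
    fin_cases i <;> fin_cases j <;> simp [Matrix.mul_apply, Fin.sum_univ_two]
  have e3 : (V * lo 1).1 = !![V.1 0 0 + V.1 0 1, V.1 0 1; V.1 1 0 + V.1 1 1, V.1 1 1] := by
    rw [Matrix.SpecialLinearGroup.coe_mul]
    show V.1 * !![(1 : k), 0; 1, 1] = _
    ext i j
    fin_cases i <;> fin_cases j <;> simp [Matrix.mul_apply, Fin.sum_univ_two]
  have e4 : (lo 1 * V).1 = !![V.1 0 0, V.1 0 1; V.1 0 0 + V.1 1 0, V.1 0 1 + V.1 1 1] := by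
    rw [Matrix.SpecialLinearGroup.coe_mul]
    show !![(1 : k), 0; 1, 1] * V.1 = _
    ext i j
    fin_cases i <;> fin_cases j <;> simp [Matrix.mul_apply, Fin.sum_univ_two]
  have c1 : V.1 1 0 = 0 ∧ (V.1 0 0 = V.1 1 1) := by
    rcases h3 with h3 | h3
    · have g1 := congrArg (fun A : Matrix.SpecialLinearGroup (Fin 2) k => A.1 0 0) h3
      have g2 := congrArg (fun A : Matrix.SpecialLinearGroup (Fin 2) k => A.1 0 1) h3
      simp only [e1, e2] at g1 g2
      have g1' : V.1 0 0 = V.1 0 0 + V.1 1 0 := by simpa using g1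
      have g2' : V.1 0 0 + V.1 0 1 = V.1 0 1 + V.1 1 1 := by simpa using g2
      refine ⟨by linear_combination -g1', by linear_combination g2'⟩
    · exfalso
      have g1 := congrArg (fun A : Matrix.SpecialLinearGroup (Fin 2) k => A.1 1 0) h3
      have g2 := congrArg (fun A : Matrix.SpecialLinearGroup (Fin 2) k => A.1 0 0) h3
      simp only [Matrix.SpecialLinearGroup.coe_neg, e1, e2, Matrix.neg_apply] at g1 g2
      have g1' : V.1 1 0 = -V.1 1 0 := by simpa using g1
      have g2' : V.1 0 0 = -(V.1 0 0 + V.1 1 0) := by simpa using g2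
      have k1 : V.1 1 0 = 0 := by
        have : (2 : k) * V.1 1 0 = 0 := by linear_combination g1'
        exact (mul_eq_zero.1 this).resolve_left h2
      have k2 : V.1 0 0 = 0 := by
        have : (2 : k) * V.1 0 0 = 0 := by rw [k1] at g2'; linear_combination g2'
        exact (mul_eq_zero.1 this).resolve_left h2
      rw [k1, k2] at hd
      simp at hd
  have c2 : V.1 0 1 = 0 := by
    rcases h4 with h4 | h4
    · have g1 := congrArg (fun A : Matrix.SpecialLinearGroup (Fin 2) k => A.1 0 0) h4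
      simp only [e3, e4] at g1
      have g1' : V.1 0 0 + V.1 0 1 = V.1 0 0 := by simpa using g1
      linear_combination g1'
    · have g1 := congrArg (fun A : Matrix.SpecialLinearGroup (Fin 2) k => A.1 0 1) h4
      simp only [Matrix.SpecialLinearGroup.coe_neg, e3, e4, Matrix.neg_apply] at g1
      have g1' : V.1 0 1 = -V.1 0 1 := by simpa using g1
      have : (2 : k) * V.1 0 1 = 0 := by linear_combination g1'
      exact (mul_eq_zero.1 this).resolve_left h2
  obtain ⟨c1, c3⟩ := c1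
  rw [c1, c2, ← c3] at hd
  have h5 : (V.1 0 0 - 1) * (V.1 0 0 + 1) = 0 := by linear_combination hd
  rcases mul_eq_zero.1 h5 with h6 | h6
  · left
    have h7 : V.1 0 0 = 1 := by linear_combination h6
    apply Subtype.ext
    ext i j
    fin_cases i <;> fin_cases j <;> simp [h7, ← c3, c1, c2]
  · right
    have h7 : V.1 0 0 = -1 := by linear_combination h6
    apply Subtype.ext
    rw [Matrix.SpecialLinearGroup.coe_neg]
    ext i j
    fin_cases i <;> fin_cases j <;> simp [h7, ← c3, c1, c2]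

theorem neg_one_ne (h2 : (2 : k) ≠ 0) : (1 : Matrix.SpecialLinearGroup (Fin 2) k) ≠ -1 := by
  intro h
  have h1 := congrArg (fun A : Matrix.SpecialLinearGroup (Fin 2) k => A.1 0 0) h
  have h3 : (1 : k) = -1 := by simpa using h1
  apply h2
  linear_combination h3

theorem neg_one_pow_odd {n : ℕ} (hn : Odd n) (A : Matrix.SpecialLinearGroup (Fin 2) k) : (-A) ^ n = -(A ^ n) := Odd.neg_pow hn A

end SL

section Fin

variable {F : Type*} [Field F] [Finite F] {r p : ℕ} [hr : Fact r.Prime] [CharP F r] [hpp : Fact p.Prime]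

/-- **Normal subgroups of `SL₂(F)`, `|F|` odd, containing an element of odd prime order `p ≠ r`.** -/
theorem eq_top_of_normal (hr2 : r ≠ 2) (hp2 : p ≠ 2) (hpr : p ≠ r) (N : Subgroup (Matrix.SpecialLinearGroup (Fin 2) F))
    [hN : N.Normal] {z : Matrix.SpecialLinearGroup (Fin 2) F} (hz : z ∈ N) (hzp : z ^ p = 1) (hz1 : z ≠ 1) : N = ⊤ := by
  have := Fintype.ofFinite F
  have hoz : orderOf z = p := orderOf_eq_prime hzp hz1
  -- `|F| ≥ 4`
  obtain ⟨a, -, ha⟩ := FiniteField.card F r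
  have hrodd : Odd r := hr.out.odd_of_ne_two hr2
  have h4 : 4 ≤ Fintype.card F := by
    by_contra hcon
    push Not at hcon
    have h3 : Fintype.card F = 3 := by
      have h5 : Odd (Fintype.card F) := by rw [ha]; exact hrodd.pow
      have h6 : 1 < Fintype.card F := Fintype.one_lt_card
      obtain ⟨m, hm⟩ := h5
      omega
    have h5 : r = 3 := by
      rw [ha] at h3
      have h6 : r ∣ 3 := by rw [← h3]; exact dvd_pow_self r a.pos.ne'
      exact (Nat.prime_dvd_prime_iff_eq hr.out (by norm_num)).1 h6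
    have h6 : p ∣ Nat.card (Matrix.SpecialLinearGroup (Fin 2) F) := by
      rw [← hoz]; exact orderOf_dvd_natCard z
    rw [Cfsg.Agent.S0276.card_sl_two (F := F) rfl, h3] at h6
    norm_num at h6
    have h7 : p ∣ 2 ^ 3 * 3 := by norm_num; exact h6
    rcases (Nat.Prime.dvd_mul hpp.out).1 h7 with h8 | h8
    · exact hp2 ((Nat.prime_dvd_prime_iff_eq hpp.out Nat.prime_two).1 (hpp.out.dvd_of_dvd_pow h8))
    · apply hpr
      rw [h5]
      exact (Nat.prime_dvd_prime_iff_eq hpp.out (by norm_num)).1 h8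
  have hperf : commutator (Matrix.SpecialLinearGroup (Fin 2) F) = ⊤ :=
    Cfsg.Agent.TwoFusion.SLTwoFacts.commutator_eq_top (by omega)
  have hs : IsSimpleGroup (Matrix.ProjectiveSpecialLinearGroup (Fin 2) F) :=
    Matrix.ProjectiveSpecialLinearGroup.rank_two_simple (by rw [Nat.card_eq_fintype_card]; exact h4)
  rcases Cfsg.Agent.S2540.normal_dichotomy hperf hs N with h | h
  · exfalso
    have h2F : (2 : F) ≠ 0 := by
      intro h0
      have h1 : ((2 : ℕ) : F) = 0 := by exact_mod_cast h0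
      rw [CharP.cast_eq_zero_iff F r 2] at h1
      exact hr2 ((Nat.prime_dvd_prime_iff_eq hr.out Nat.prime_two).1 h1)
    have h1 := h hz
    rw [Subgroup.mem_center_iff] at h1
    rcases eq_one_or_neg h2F (V := z) (Or.inl (h1 _).symm) (Or.inl (h1 _).symm) with h5 | h5
    · exact hz1 h5
    · rw [h5, neg_one_pow_odd (hpp.out.odd_of_ne_two hp2), one_pow] at hzp
      exact neg_one_ne h2F hzp.symm
  · exact h

end Fin

section Fix

variable {k : Type*} [Field k] (φ : k →+* k)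

/-- the fixed field -/
abbrev FF : Subfield k := RingHom.eqLocusField φ (RingHom.id k)

theorem mem_FF {t : k} : t ∈ FF φ ↔ φ t = t := Iff.rfl

theorem finite_FF {q : ℕ} (hq : 1 < q) (hφ : ∀ t, φ t = t ^ q) : Finite ↥(FF φ) := by
  have h1 : (Polynomial.X ^ q - Polynomial.X : Polynomial k) ≠ 0 := FiniteField.X_pow_card_sub_X_ne_zero k hq
  have h2 : {t | t ∈ FF φ} ⊆ ((Polynomial.X ^ q - Polynomial.X : Polynomial k).rootSet k) := by
    intro t ht
    rw [Polynomial.mem_rootSet]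
    refine ⟨h1, ?_⟩
    have h3 : φ t = t := ht
    rw [hφ] at h3
    simp [h3]
  exact (Set.Finite.subset (Polynomial.rootSet_finite _ _) h2).to_subtype

/-- the fixed points of a Frobenius map -/
theorem exists_of_fix {A : Matrix.SpecialLinearGroup (Fin 2) k} (hA : Matrix.SpecialLinearGroup.map φ A = A) :
    ∃ B : Matrix.SpecialLinearGroup (Fin 2) ↥(FF φ), Matrix.SpecialLinearGroup.map (FF φ).subtype B = A := by
  have h1 : ∀ i j, φ (A.1 i j) = A.1 i j := by
    intro i j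
    have h2 := congrArg (fun B : Matrix.SpecialLinearGroup (Fin 2) k => B.1 i j) hA
    exact h2
  let B : Matrix (Fin 2) (Fin 2) ↥(FF φ) := fun i j => ⟨A.1 i j, h1 i j⟩
  have hB : (FF φ).subtype B.det = 1 := by
    rw [RingHom.map_det]
    exact A.2
  refine ⟨⟨B, ?_⟩, ?_⟩
  · exact (FF φ).subtype.injective (hB.trans (map_one _).symm)
  · apply Subtype.ext
    ext i j
    rfl

theorem fix_map (B : Matrix.SpecialLinearGroup (Fin 2) ↥(FF φ)) :
    Matrix.SpecialLinearGroup.map φ (Matrix.SpecialLinearGroup.map (FF φ).subtype B) = Matrix.SpecialLinearGroup.map (FF φ).subtype B := by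
  apply Subtype.ext
  ext i j
  exact (B.1 i j).2

theorem map_sub_injective : Function.Injective (Matrix.SpecialLinearGroup.map (n := Fin 2) (FF φ).subtype) := by
  intro A B hAB
  apply Subtype.ext
  ext i j
  exact congrArg (fun M : Matrix.SpecialLinearGroup (Fin 2) k => M.1 i j) hAB

end Fix

end Cfsg.Agent.H655.Mono
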