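import Cfsg.Agent.H655.Mono.SLTwo
import Cfsg.Agent.H818.Gen.Defs

/-!
# S2187, orthogonal orbits: the abstract argument (helper655)

`ψ : SL₂(k) → Y` with kernel in `± 1`, `τ (ψ A) = ψ (φ A)`, `φ t = t ^ q`; `E` elementary abelian of exponent `p`, fixed by
`τ`, `f ∈ E` with `[f^i ψ(SL₂) f^-i, ψ(SL₂)] = 1` for `p ∤ i`, `Eₐ ≤ E` acting by diagonal matrices, `E = ⟨f⟩ Eₐ`.

* `Dn_*` : `(x f) ^ p = x x^f x^ff ⋯`;
* `relIndex_of` : hyperplanes;
* `main` : `ψ A ∈ H` for all `A` with `φ A = A`.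
-/

set_option autoImplicit false
set_option linter.unusedSectionVars false

namespace Cfsg.Agent.H655.Mono

open Cfsg
open Cfsg.Agent.ChevalleyStructure.SL2Hom (up lo mem_closure_SL2)

/-- **hyperplanes** -/
theorem relIndex_of {Y : Type*} [Group Y] {p : ℕ} [Fact p.Prime] {E F : Subgroup Y} (hE : IsElementaryAbelian p E)
    {g : Y} (hg : g ∈ E) (hg' : g ∉ F) (hgen : ∀ y ∈ E, ∃ j : ℤ, (g ^ j)⁻¹ * y ∈ F) : F.relIndex E = p := by
  have hc : IsMulCommutative ↥E := hE.1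
  have hn : (F.subgroupOf E).Normal := ⟨fun a ha g => by
    have : g * a * g⁻¹ = a := by rw [hc.1.1 g a]; group
    rwa [this]⟩
  obtain ⟨q, hq⟩ : ∃ q : ↥E ⧸ F.subgroupOf E, q = QuotientGroup.mk ⟨g, hg⟩ := ⟨_, rfl⟩
  have h1 : q ^ p = 1 := by
    rw [hq, ← QuotientGroup.mk_pow]
    have : (⟨g, hg⟩ : ↥E) ^ p = 1 := Subtype.ext (hE.2 g hg)
    rw [this]; rfl
  have h2 : q ≠ 1 := by
    rw [hq, Ne, QuotientGroup.eq_one_iff]
    exact hg'
  have h3 : orderOf q = p := orderOf_eq_prime h1 h2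
  have h4 : Subgroup.zpowers q = ⊤ := by
    rw [Subgroup.eq_top_iff']
    intro x
    obtain ⟨y, rfl⟩ := QuotientGroup.mk_surjective x
    obtain ⟨j, hj⟩ := hgen y y.2
    refine ⟨j, ?_⟩
    show q ^ j = _
    rw [hq, ← QuotientGroup.mk_zpow, QuotientGroup.eq]
    exact hj
  have h5 : Nat.card (↥E ⧸ F.subgroupOf E) = p := by
    rw [← Subgroup.card_top, ← h4, Nat.card_zpowers, h3]
  exact h5

/-- the group generated by the `r`-elements fixed by `τ` -/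
def Oq (r : ℕ) {Y : Type*} [Group Y] (τ : MulAut Y) : Subgroup Y :=
  Subgroup.closure {u | τ u = u ∧ ∃ j : ℕ, u ^ r ^ j = 1}

section Dn

variable {Y : Type*} [Group Y] {f x : Y}

theorem Dn_succ (n : ℕ) : (x * f) ^ (n + 1) * (f ^ (n + 1))⁻¹ = (x * f) ^ n * (f ^ n)⁻¹ * (f ^ n * x * (f ^ n)⁻¹) := by
  rw [pow_succ, pow_succ]; group

theorem Dn_mem {r : ℕ} {τ : MulAut Y} (hf : τ f = f) (hx : τ x = x) (hxr : ∃ j : ℕ, x ^ r ^ j = 1) (n : ℕ) :
    (x * f) ^ n * (f ^ n)⁻¹ ∈ Oq r τ := by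
  induction n with
  | zero => rw [pow_zero, pow_zero, inv_one, mul_one]; exact one_mem _
  | succ n ih =>
    rw [Dn_succ]
    refine mul_mem ih (Subgroup.subset_closure ⟨?_, ?_⟩)
    · rw [map_mul, map_mul, map_inv, map_pow, hf, hx]
    · obtain ⟨j, hj⟩ := hxr
      exact ⟨j, by rw [conj_pow, hj, mul_one, mul_inv_cancel]⟩

variable {p : ℕ} {L : Subgroup Y}
  (hcom : ∀ i : ℕ, ¬ p ∣ i → ∀ u ∈ L, ∀ v ∈ L, (f ^ i * u * (f ^ i)⁻¹) * v = v * (f ^ i * u * (f ^ i)⁻¹))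

include hcom

theorem Dn_rest (hx : x ∈ L) (n : ℕ) (h1 : 1 ≤ n) (hn : n ≤ p) {v : Y} (hv : v ∈ L) :
    (x⁻¹ * ((x * f) ^ n * (f ^ n)⁻¹)) * v = v * (x⁻¹ * ((x * f) ^ n * (f ^ n)⁻¹)) := by
  induction n, h1 using Nat.le_induction with
  | base =>
    have e : x⁻¹ * ((x * f) ^ 1 * (f ^ 1)⁻¹) = 1 := by rw [pow_one, pow_one]; group
    rw [e, one_mul, mul_one]
  | succ n h1 ih =>
    have h2 : ¬ p ∣ n := fun h => by
      have := Nat.le_of_dvd (by omega) h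
      omega
    have h3 : Commute (x⁻¹ * ((x * f) ^ n * (f ^ n)⁻¹)) v := ih (by omega)
    have h4 : Commute (f ^ n * x * (f ^ n)⁻¹) v := hcom n h2 x hx v hv
    rw [Dn_succ, ← mul_assoc x⁻¹]
    exact (h3.mul_left h4)

theorem pow_rest (hp : 0 < p) (hfp : f ^ p = 1) (hx : x ∈ L) {v : Y} (hv : v ∈ L) :
    (x⁻¹ * (x * f) ^ p) * v = v * (x⁻¹ * (x * f) ^ p) := by
  have h1 := Dn_rest hcom hx p hp le_rfl hv
  rwa [hfp, inv_one, mul_one] at h1

/-- `d(x)` acts on `L` as `x` -/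
theorem pow_conj (hp : 0 < p) (hfp : f ^ p = 1) (hx : x ∈ L) {v : Y} (hv : v ∈ L) :
    (x * f) ^ p * v * ((x * f) ^ p)⁻¹ = x * v * x⁻¹ := by
  have h1 := pow_rest hcom hp hfp hx hv
  have h2 : (x * f) ^ p = x * (x⁻¹ * (x * f) ^ p) := by group
  rw [h2]
  generalize x⁻¹ * (x * f) ^ p = R at h1
  calc x * R * v * (x * R)⁻¹ = x * (R * v) * (R⁻¹ * x⁻¹) := by group
    _ = x * (v * R) * (R⁻¹ * x⁻¹) := by rw [h1]
    _ = _ := by group

/-- `d(x)` commutes with `f` -/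
theorem pow_comm (hp : 0 < p) (hfp : f ^ p = 1) (hx : x ∈ L) : f * (x * f) ^ p = (x * f) ^ p * f := by
  have h1 := pow_rest hcom hp hfp hx hx
  have h2 : (x * f) ^ p = x * (x⁻¹ * (x * f) ^ p) := by group
  have h3 : f * (x * f) ^ p * f⁻¹ = x⁻¹ * (x * f) ^ p * x := by
    have e1 : f * (x * f) ^ p * f⁻¹ = (f * (x * f) * f⁻¹) ^ p := (conj_pow).symm
    have e2 : x⁻¹ * (x * f) ^ p * x = (x⁻¹ * (x * f) * x) ^ p := by
      have := (conj_pow (i := p) (a := x⁻¹) (b := x * f)).symm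
      rwa [inv_inv] at this
    rw [e1, e2]
    congr 1
    group
  rw [h1, ← h2] at h3
  exact mul_inv_eq_iff_eq_mul.1 h3

end Dn

section Main

variable {k : Type*} [Field k] [IsAlgClosed k] {r p q : ℕ} [hr : Fact r.Prime] [CharP k r] [hpp : Fact p.Prime]
  {φ : k →+* k} {Y : Type*} [Group Y] {ψ : Matrix.SpecialLinearGroup (Fin 2) k →* Y} {τ : MulAut Y} {E H : Subgroup Y}
  {Ea : Subgroup Y} {U : Matrix.SpecialLinearGroup (Fin 2) k}

omit [IsAlgClosed k] in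
theorem two_ne (hr2 : r ≠ 2) : (2 : k) ≠ 0 := by
  intro h0
  have h1 : ((2 : ℕ) : k) = 0 := by exact_mod_cast h0
  rw [CharP.cast_eq_zero_iff k r 2] at h1
  exact hr2 ((Nat.prime_dvd_prime_iff_eq hr.out Nat.prime_two).1 h1)

/-- the fixed points lie in the group generated by `r`-elements -/
theorem or_of_fix (hτ : ∀ A, τ (ψ A) = ψ (Matrix.SpecialLinearGroup.map φ A)) {A : Matrix.SpecialLinearGroup (Fin 2) k}
    (hA : Matrix.SpecialLinearGroup.map φ A = A) : ψ A ∈ Oq r τ := by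
  obtain ⟨B, rfl⟩ := exists_of_fix φ hA
  have h3 : Subgroup.closure (Set.range (up (F := ↥(FF φ))) ∪ Set.range (lo (F := ↥(FF φ)))) ≤
      (Oq r τ).comap (ψ.comp (Matrix.SpecialLinearGroup.map (FF φ).subtype)) := by
    rw [Subgroup.closure_le]
    rintro _ (⟨a, rfl⟩ | ⟨a, rfl⟩)
    · show ψ (Matrix.SpecialLinearGroup.map (FF φ).subtype (up a)) ∈ Oq r τ
      refine Subgroup.subset_closure ⟨by rw [hτ, fix_map], 1, ?_⟩
      rw [pow_one, map_up, ← map_pow, up_ord, map_one]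
    · show ψ (Matrix.SpecialLinearGroup.map (FF φ).subtype (lo a)) ∈ Oq r τ
      refine Subgroup.subset_closure ⟨by rw [hτ, fix_map], 1, ?_⟩
      rw [pow_one, map_lo, ← map_pow, lo_ord, map_one]
  exact h3 (mem_closure_SL2 B)

/-- an element acting on the image of `ψ` as `ψ V`, `V` commuting with it up to the kernel -/
theorem central_of (hr2 : r ≠ 2) (hker : ∀ A, ψ A = 1 → A = 1 ∨ A = -1) {V : Matrix.SpecialLinearGroup (Fin 2) k}
    (h : ∀ A, ψ (V * A * V⁻¹) = ψ A) : V = 1 ∨ V = -1 := by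
  have h1 : ∀ A, V * A = A * V ∨ V * A = -(A * V) := by
    intro A
    have h2 : ψ (V * A * V⁻¹ * A⁻¹) = 1 := by rw [map_mul, h, map_inv, mul_inv_cancel]
    rcases hker _ h2 with h3 | h3
    · left
      rw [mul_inv_eq_one, mul_inv_eq_iff_eq_mul] at h3
      exact h3
    · right
      rw [mul_inv_eq_iff_eq_mul, neg_one_mul, mul_inv_eq_iff_eq_mul, neg_mul] at h3
      exact h3
  exact eq_one_or_neg (two_ne hr2) (h1 _) (h1 _)

/-- the action of an element of exponent `p` by diagonal matrices -/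
theorem exists_diag (hr2 : r ≠ 2) (hp2 : p ≠ 2) (hker : ∀ A, ψ A = 1 → A = 1 ∨ A = -1) {y : Y} (hyp : y ^ p = 1)
    (hact : ∃ c, ∃ hc : c ≠ 0, ∀ A, y * ψ A * y⁻¹ = ψ (U * dc c hc (U⁻¹ * A * U) * U⁻¹)) :
    ∃ s, ∃ hs : s ≠ 0, s ^ p = 1 ∧
      ∀ A, y * ψ A * y⁻¹ = ψ ((U * dg s hs * U⁻¹) * A * (U * dg s hs * U⁻¹)⁻¹) := by
  obtain ⟨c, hc, h1⟩ := hact
  obtain ⟨s, hs2⟩ := IsAlgClosed.exists_pow_nat_eq c (n := 2) (by norm_num)
  have hs : s ≠ 0 := by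
    rintro rfl
    apply hc
    rw [← hs2]; norm_num
  have key : ∀ (s : k) (hs : s ≠ 0), s ^ 2 = c → ∀ A, y * ψ A * y⁻¹ =
      ψ ((U * dg s hs * U⁻¹) * A * (U * dg s hs * U⁻¹)⁻¹) := by
    intro s hs hs2 A
    rw [h1, ← dg_conj s hs hc hs2]
    congr 1
    group
  have h2 := key s hs hs2
  have h3 : ∀ (n : ℕ) A, y ^ n * ψ A * (y ^ n)⁻¹ = ψ ((U * dg s hs * U⁻¹) ^ n * A * ((U * dg s hs * U⁻¹) ^ n)⁻¹) := by
    intro n
    induction n with
    | zero => intro A; simp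
    | succ n ih =>
      intro A
      have e1 : y ^ (n + 1) * ψ A * (y ^ (n + 1))⁻¹ = y ^ n * (y * ψ A * y⁻¹) * (y ^ n)⁻¹ := by
        rw [pow_succ]; group
      rw [e1, h2, ih]
      congr 1
      rw [pow_succ]; group
  have h4 := central_of hr2 hker (V := (U * dg s hs * U⁻¹) ^ p) (fun A => by
    rw [← h3, hyp, one_mul, inv_one, mul_one])
  have h5 : (U * dg s hs * U⁻¹) ^ p = U * dg s hs ^ p * U⁻¹ := conj_pow
  have h6 : dg s hs ^ p = 1 ∨ dg s hs ^ p = -1 := by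
    rw [h5] at h4
    have e : dg s hs ^ p = U⁻¹ * (U * dg s hs ^ p * U⁻¹) * U := by group
    rcases h4 with h4 | h4
    · left; rw [e, h4]; group
    · right
      rw [e, h4, mul_neg, neg_mul, mul_one, inv_mul_cancel]
  rw [dg_pow] at h6
  have hodd := hpp.out.odd_of_ne_two hp2
  rcases h6 with h6 | h6
  · refine ⟨s, hs, ?_, h2⟩
    have h7 := congrArg (fun A : Matrix.SpecialLinearGroup (Fin 2) k => A.1 0 0) h6
    simpa [dg] using h7
  · refine ⟨-s, neg_ne_zero.2 hs, ?_, key (-s) (neg_ne_zero.2 hs) (by rw [neg_sq, hs2])⟩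
    have h7 := congrArg (fun A : Matrix.SpecialLinearGroup (Fin 2) k => A.1 0 0) h6
    have h8 : s ^ p = -1 := by simpa [dg] using h7
    rw [hodd.neg_pow, h8, neg_neg]

variable (hr2 : r ≠ 2) (hp2 : p ≠ 2) (hpr : p ≠ r) (hq : 1 < q) (hφ : ∀ t, φ t = t ^ q)
  (hker : ∀ A, ψ A = 1 → A = 1 ∨ A = -1) (hτ : ∀ A, τ (ψ A) = ψ (Matrix.SpecialLinearGroup.map φ A))
  (el : IsElementaryAbelian p E) (fix : ∀ y ∈ E, τ y = y)
  (cent : ∀ F ≤ E, F.relIndex E = p → ∀ u ∈ Oq r τ, (∀ x ∈ F, x * u = u * x) → u ∈ H)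
  (hEa : Ea ≤ E)
  (hact : ∀ y ∈ Ea, ∃ c, ∃ hc : c ≠ 0, ∀ A, y * ψ A * y⁻¹ = ψ (U * dc c hc (U⁻¹ * A * U) * U⁻¹))

include hφ in
theorem phi_surj (hq : 1 < q) (A : Matrix.SpecialLinearGroup (Fin 2) k) : ∃ B, Matrix.SpecialLinearGroup.map φ B = A := by
  have h1 : Function.Surjective φ := by
    intro t
    obtain ⟨s, hs⟩ := IsAlgClosed.exists_pow_nat_eq t (n := q) (by omega)
    exact ⟨s, by rw [hφ, hs]⟩
  choose g hg using fun i j => h1 (A.1 i j)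
  let B : Matrix (Fin 2) (Fin 2) k := Matrix.of g
  have hB : φ.mapMatrix B = A.1 := by
    ext i j
    exact hg i j
  have hd : φ B.det = 1 := by
    rw [RingHom.map_det, hB]; exact A.2
  refine ⟨⟨B, φ.injective (hd.trans (map_one φ).symm)⟩, ?_⟩
  apply Subtype.ext
  exact hB

include hr2 hp2 hq hφ hker hτ el fix hEa hact in
/-- **The torus element.** -/
theorem exists_tor {y : Y} (hy : y ∈ Ea) {A₀ : Matrix.SpecialLinearGroup (Fin 2) k} (hne : y * ψ A₀ ≠ ψ A₀ * y) :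
    ∃ Z : Matrix.SpecialLinearGroup (Fin 2) k, Matrix.SpecialLinearGroup.map φ Z = Z ∧ Z ^ p = 1 ∧ Z ≠ 1 ∧
      ∀ x ∈ Ea, x * ψ Z = ψ Z * x := by
  obtain ⟨s, hs, hsp, h1⟩ := exists_diag hr2 hp2 hker (el.2 y (hEa hy)) (hact y hy)
  obtain ⟨Z, hZ⟩ : ∃ Z, Z = U * dg s hs * U⁻¹ := ⟨_, rfl⟩
  rw [← hZ] at h1
  have hZp : Z ^ p = 1 := by
    rw [hZ, conj_pow, dg_pow, dg_congr (pow_ne_zero p hs) one_ne_zero hsp, dg_one, mul_one, mul_inv_cancel]
  refine ⟨Z, ?_, hZp, ?_, ?_⟩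
  · -- `Z⁻¹ φ(Z)` is central
    have h2 : ∀ A, ψ ((Z⁻¹ * Matrix.SpecialLinearGroup.map φ Z) * A * (Z⁻¹ * Matrix.SpecialLinearGroup.map φ Z)⁻¹) = ψ A := by
      intro A
      obtain ⟨B, rfl⟩ := phi_surj hφ hq A
      have h3 : ψ (Z * Matrix.SpecialLinearGroup.map φ B * Z⁻¹) = ψ (Matrix.SpecialLinearGroup.map φ Z *
          Matrix.SpecialLinearGroup.map φ B * (Matrix.SpecialLinearGroup.map φ Z)⁻¹) := by
        calc ψ (Z * Matrix.SpecialLinearGroup.map φ B * Z⁻¹) = y * ψ (Matrix.SpecialLinearGroup.map φ B) * y⁻¹ :=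
              (h1 _).symm
          _ = τ (y * ψ B * y⁻¹) := by rw [map_mul, map_mul, map_inv, fix y (hEa hy), hτ]
          _ = τ (ψ (Z * B * Z⁻¹)) := by rw [h1]
          _ = ψ (Matrix.SpecialLinearGroup.map φ (Z * B * Z⁻¹)) := hτ _
          _ = _ := congrArg ψ (by rw [map_mul, map_mul, map_inv])
      have e1 : (Z⁻¹ * Matrix.SpecialLinearGroup.map φ Z) * Matrix.SpecialLinearGroup.map φ B *
          (Z⁻¹ * Matrix.SpecialLinearGroup.map φ Z)⁻¹ = Z⁻¹ * (Matrix.SpecialLinearGroup.map φ Z * Matrix.SpecialLinearGroup.map φ B *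
            (Matrix.SpecialLinearGroup.map φ Z)⁻¹) * Z := by group
      rw [e1, map_mul, map_mul, ← h3, ← map_mul, ← map_mul]
      congr 1
      group
    rcases central_of hr2 hker h2 with h3 | h3
    · exact (inv_mul_eq_one.1 h3).symm
    · exfalso
      have h4 : Matrix.SpecialLinearGroup.map φ Z = -Z := by
        rw [inv_mul_eq_iff_eq_mul] at h3
        rw [h3, mul_neg, mul_one]
      have h5 := congrArg (Matrix.SpecialLinearGroup.map φ) hZp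
      rw [map_pow, h4, neg_one_pow_odd (hpp.out.odd_of_ne_two hp2), hZp, map_one] at h5
      exact neg_one_ne (two_ne hr2) h5.symm
  · intro h2
    apply hne
    have h3 := h1 A₀
    rw [h2, one_mul, inv_one, mul_one] at h3
    exact mul_inv_eq_iff_eq_mul.1 h3
  · intro x hx
    obtain ⟨c, hc, h2⟩ := hact x hx
    have h3 := h2 Z
    have e1 : U⁻¹ * Z * U = dg s hs := by rw [hZ]; group
    rw [e1, dc_dg, ← hZ] at h3
    exact mul_inv_eq_iff_eq_mul.1 h3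

include hr2 hp2 hpr hq hφ hker hτ el fix cent hEa hact in
/-- **The orthogonal orbit.** -/
theorem main {f : Y} (hf : f ∈ E)
    (hcom : ∀ i : ℕ, ¬ p ∣ i → ∀ A B, (f ^ i * ψ A * (f ^ i)⁻¹) * ψ B = ψ B * (f ^ i * ψ A * (f ^ i)⁻¹))
    (hfi : ∀ i : ℕ, ¬ p ∣ i → f ^ i ∉ Ea) (hgen : ∀ y ∈ E, ∃ j : ℕ, (f ^ j)⁻¹ * y ∈ Ea)
    {A : Matrix.SpecialLinearGroup (Fin 2) k} (hA : Matrix.SpecialLinearGroup.map φ A = A) : ψ A ∈ H := by
  have hcE : ∀ {x y : Y}, x ∈ E → y ∈ E → x * y = y * x := fun {x y} hx hy => by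
    have hc : IsMulCommutative ↥E := el.1
    exact congrArg Subtype.val (hc.1.1 (⟨x, hx⟩ : ↥E) ⟨y, hy⟩)
  have hfp : f ^ p = 1 := el.2 f hf
  have h1p : ¬ p ∣ 1 := fun h => hpp.out.one_lt.ne' (Nat.dvd_one.1 h)
  have hf1 : f ∉ Ea := by
    have := hfi 1 h1p
    rwa [pow_one] at this
  have hiEa : Ea.relIndex E = p := relIndex_of el hf hf1 fun y hy => by
    obtain ⟨j, hj⟩ := hgen y hy
    exact ⟨j, by rwa [zpow_natCast]⟩
  by_cases hB : ∀ y ∈ Ea, ∀ A, y * ψ A = ψ A * y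
  · exact cent Ea hEa hiEa _ (or_of_fix hτ hA) fun x hx => hB x hx A
  push Not at hB
  obtain ⟨e₀, he₀, A₀, hne⟩ := hB
  obtain ⟨s₀, hs₀, hs₀p, hact₀⟩ := exists_diag hr2 hp2 hker (el.2 e₀ (hEa he₀)) (hact e₀ he₀)
  have hs₀1 : s₀ ≠ 1 := by
    rintro rfl
    apply hne
    have h1 := hact₀ A₀
    rw [dg_one, mul_one, mul_inv_cancel, one_mul, inv_one, mul_one] at h1
    exact mul_inv_eq_iff_eq_mul.1 h1
  have hprim : IsPrimitiveRoot s₀ p := by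
    have := IsPrimitiveRoot.orderOf s₀
    rwa [orderOf_eq_prime hs₀p hs₀1] at this
  -- the kernel
  obtain ⟨B, hBdef⟩ : ∃ B : Subgroup Y, B = Ea ⊓ Subgroup.centralizer (ψ.range : Set Y) := ⟨_, rfl⟩
  have memB : ∀ {y}, y ∈ B ↔ y ∈ Ea ∧ ∀ A, y * ψ A = ψ A * y := by
    intro y
    rw [hBdef, Subgroup.mem_inf, Subgroup.mem_centralizer_iff]
    constructor
    · rintro ⟨h1, h2⟩
      exact ⟨h1, fun A => (h2 _ ⟨A, rfl⟩).symm⟩
    · rintro ⟨h1, h2⟩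
      refine ⟨h1, ?_⟩
      rintro _ ⟨A, rfl⟩
      exact (h2 A).symm
  -- the hyperplane `B⟨f⟩`
  obtain ⟨F, hFdef⟩ : ∃ F : Subgroup Y, F = B ⊔ Subgroup.zpowers f := ⟨_, rfl⟩
  have hBE : B ≤ E := fun y hy => hEa (memB.1 hy).1
  have hFE : F ≤ E := by
    rw [hFdef]
    exact sup_le hBE (Subgroup.zpowers_le.2 hf)
  have hfF : f ∈ F := by rw [hFdef]; exact (le_sup_right : _ ≤ B ⊔ Subgroup.zpowers f) (Subgroup.mem_zpowers f)
  have hBF : B ≤ F := by rw [hFdef]; exact le_sup_left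
  have memF : ∀ {y}, y ∈ F → ∃ j : ℤ, ∃ b ∈ B, y = f ^ j * b := by
    intro y hy
    rw [hFdef, Subgroup.sup_eq_closure] at hy
    induction hy using Subgroup.closure_induction with
    | mem y hy =>
      rcases hy with hy | hy
      · exact ⟨0, y, hy, by rw [zpow_zero, one_mul]⟩
      · obtain ⟨j, rfl⟩ := hy
        exact ⟨j, 1, one_mem _, by simp⟩
    | one => exact ⟨0, 1, one_mem _, by simp⟩
    | mul x y _ _ hx hy =>
      obtain ⟨i, b, hb, rfl⟩ := hx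
      obtain ⟨j, c, hc, rfl⟩ := hy
      refine ⟨i + j, b * c, mul_mem hb hc, ?_⟩
      have h1 : b * f ^ j = f ^ j * b := hcE (hBE hb) (zpow_mem hf j)
      rw [zpow_add]
      calc f ^ i * b * (f ^ j * c) = f ^ i * (b * f ^ j) * c := by group
        _ = f ^ i * (f ^ j * b) * c := by rw [h1]
        _ = _ := by group
    | inv x _ hx =>
      obtain ⟨i, b, hb, rfl⟩ := hx
      refine ⟨-i, b⁻¹, inv_mem hb, ?_⟩
      rw [mul_inv_rev, ← zpow_neg]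
      exact hcE (inv_mem (hBE hb)) (zpow_mem hf (-i))
  have he₀F : e₀ ∉ F := by
    intro h
    obtain ⟨j, b, hb, h1⟩ := memF h
    have h2 : f ^ j ∈ Ea := by
      have : f ^ j = e₀ * b⁻¹ := by rw [h1]; group
      rw [this]
      exact mul_mem he₀ (inv_mem (memB.1 hb).1)
    -- reduce the exponent mod `p`
    have h3 : f ^ j = f ^ (j % p).toNat := by
      have hp0 : (p : ℤ) ≠ 0 := by exact_mod_cast hpp.out.ne_zero
      have h4 : 0 ≤ j % p := Int.emod_nonneg j hp0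
      rw [← zpow_natCast, Int.toNat_of_nonneg h4]
      conv_lhs => rw [← Int.emod_add_mul_ediv j p, zpow_add, zpow_mul, zpow_natCast, hfp, one_zpow, mul_one]
    by_cases h4 : p ∣ (j % p).toNat
    · have h5 : f ^ j = 1 := by
        rw [h3]
        obtain ⟨m, hm⟩ := h4
        rw [hm, pow_mul, hfp, one_pow]
      rw [h5, one_mul] at h1
      rw [h1] at hne
      exact hne ((memB.1 hb).2 A₀)
    · exact hfi _ h4 (h3 ▸ h2)
  have hiF : F.relIndex E = p := relIndex_of el (hEa he₀) he₀F fun y hy => by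
    obtain ⟨j, hj⟩ := hgen y hy
    obtain ⟨s, hs, hsp, h1⟩ := exists_diag hr2 hp2 hker (el.2 _ (hEa hj)) (hact _ hj)
    obtain ⟨i, -, hi⟩ := hprim.eq_pow_of_pow_eq_one hsp
    refine ⟨i, ?_⟩
    -- `b = e₀⁻ⁱ (f⁻ʲ y)` is in `B`
    have hb : (e₀ ^ i)⁻¹ * ((f ^ j)⁻¹ * y) ∈ B := by
      refine memB.2 ⟨mul_mem (inv_mem (pow_mem he₀ i)) hj, fun A => ?_⟩
      have h3 : ∀ (n : ℕ) A, e₀ ^ n * ψ A * (e₀ ^ n)⁻¹ = ψ ((U * dg s₀ hs₀ * U⁻¹) ^ n * A *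
          ((U * dg s₀ hs₀ * U⁻¹) ^ n)⁻¹) := by
        intro n
        induction n with
        | zero => intro A; simp
        | succ n ih =>
          intro A
          have e1 : e₀ ^ (n + 1) * ψ A * (e₀ ^ (n + 1))⁻¹ = e₀ ^ n * (e₀ * ψ A * e₀⁻¹) * (e₀ ^ n)⁻¹ := by
            rw [pow_succ]; group
          rw [e1, hact₀, ih]
          congr 1
          rw [pow_succ]; group
      have h4 : (U * dg s₀ hs₀ * U⁻¹) ^ i = U * dg s hs * U⁻¹ := by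
        rw [conj_pow, dg_pow, dg_congr (pow_ne_zero i hs₀) hs hi]
      have h5 : (f ^ j)⁻¹ * y * ψ A * ((f ^ j)⁻¹ * y)⁻¹ = e₀ ^ i * ψ A * (e₀ ^ i)⁻¹ := by
        rw [h1, h3, h4]
      have h6 : (e₀ ^ i)⁻¹ * ((f ^ j)⁻¹ * y) * ψ A * ((e₀ ^ i)⁻¹ * ((f ^ j)⁻¹ * y))⁻¹ = ψ A := by
        calc (e₀ ^ i)⁻¹ * ((f ^ j)⁻¹ * y) * ψ A * ((e₀ ^ i)⁻¹ * ((f ^ j)⁻¹ * y))⁻¹
            = (e₀ ^ i)⁻¹ * ((f ^ j)⁻¹ * y * ψ A * ((f ^ j)⁻¹ * y)⁻¹) * e₀ ^ i := by group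
          _ = (e₀ ^ i)⁻¹ * (e₀ ^ i * ψ A * (e₀ ^ i)⁻¹) * e₀ ^ i := by rw [h5]
          _ = ψ A := by group
      exact mul_inv_eq_iff_eq_mul.1 h6
    have e2 : (e₀ ^ (i : ℤ))⁻¹ * y = f ^ j * ((e₀ ^ i)⁻¹ * ((f ^ j)⁻¹ * y)) := by
      rw [zpow_natCast]
      have h7 : (e₀ ^ i)⁻¹ * (f ^ j)⁻¹ = (f ^ j)⁻¹ * (e₀ ^ i)⁻¹ :=
        hcE (inv_mem (pow_mem (hEa he₀) i)) (inv_mem (pow_mem hf j))
      calc (e₀ ^ i)⁻¹ * y = f ^ j * ((f ^ j)⁻¹ * (e₀ ^ i)⁻¹) * y := by group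
        _ = f ^ j * ((e₀ ^ i)⁻¹ * (f ^ j)⁻¹) * y := by rw [h7]
        _ = _ := by group
    rw [e2]
    exact mul_mem (pow_mem hfF j) (hBF hb)
  -- the diagonal elements
  have hcomL : ∀ i : ℕ, ¬ p ∣ i → ∀ u ∈ ψ.range, ∀ v ∈ ψ.range,
      (f ^ i * u * (f ^ i)⁻¹) * v = v * (f ^ i * u * (f ^ i)⁻¹) := by
    rintro i hi _ ⟨A, rfl⟩ _ ⟨B, rfl⟩
    exact hcom i hi A B
  have hd : ∀ X : Matrix.SpecialLinearGroup (Fin 2) k, Matrix.SpecialLinearGroup.map φ X = X → X ^ r = 1 →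
      (ψ X * f) ^ p ∈ H := by
    intro X hX hXr
    have hXY : ψ X ∈ ψ.range := ⟨X, rfl⟩
    refine cent F hFE hiF _ ?_ ?_
    · have h1 := Dn_mem (r := r) (τ := τ) (f := f) (x := ψ X) (fix f hf) (by rw [hτ, hX])
        ⟨1, by rw [pow_one, ← map_pow, hXr, map_one]⟩ p
      rwa [hfp, inv_one, mul_one] at h1
    · intro y hy
      obtain ⟨j, b, hb, rfl⟩ := memF hy
      have h1 : Commute f ((ψ X * f) ^ p) := pow_comm hcomL hpp.out.pos hfp hXY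
      have h2 : Commute b ((ψ X * f) ^ p) := by
        have h3 : Commute b (ψ X) := (memB.1 hb).2 X
        have h4 : Commute b f := hcE (hBE hb) hf
        exact (h3.mul_right h4).pow_right p
      exact ((h1.zpow_left j).mul_left h2)
  -- the normal subgroup
  obtain ⟨N, hN⟩ : ∃ N : Subgroup (Matrix.SpecialLinearGroup (Fin 2) ↥(FF φ)),
    N = (H.comap ψ).comap (Matrix.SpecialLinearGroup.map (FF φ).subtype) := ⟨_, rfl⟩
  have memN : ∀ {g}, g ∈ N ↔ ψ (Matrix.SpecialLinearGroup.map (FF φ).subtype g) ∈ H := by intro g; rw [hN]; rfl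
  have hgenN : ∀ g : Matrix.SpecialLinearGroup (Fin 2) ↥(FF φ), g ^ r = 1 → ∀ n ∈ N, g * n * g⁻¹ ∈ N := by
    intro g hgr n hn
    rw [memN] at hn ⊢
    have h1 := hd (Matrix.SpecialLinearGroup.map (FF φ).subtype g) (fix_map φ g) (by rw [← map_pow, hgr, map_one])
    have h2 := pow_conj hcomL hpp.out.pos hfp (x := ψ (Matrix.SpecialLinearGroup.map (FF φ).subtype g)) ⟨_, rfl⟩
      (v := ψ (Matrix.SpecialLinearGroup.map (FF φ).subtype n)) ⟨_, rfl⟩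
    rw [map_mul, map_mul, map_inv, map_mul, map_mul, map_inv, ← h2]
    exact mul_mem (mul_mem h1 hn) (inv_mem h1)
  have hFchar : CharP ↥(FF φ) r := (RingHom.charP_iff (FF φ).subtype (FF φ).subtype.injective r).2 inferInstance
  have hNn : N.Normal := by
    constructor
    intro n hn g
    have h3 : g ∈ Subgroup.closure (Set.range (up (F := ↥(FF φ))) ∪ Set.range (lo (F := ↥(FF φ)))) :=
      mem_closure_SL2 g
    have h4 : ∀ g ∈ Set.range (up (F := ↥(FF φ))) ∪ Set.range (lo (F := ↥(FF φ))), g ^ r = 1 := by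
      rintro _ (⟨a, rfl⟩ | ⟨a, rfl⟩)
      · exact up_ord r a
      · exact lo_ord r a
    induction h3 using Subgroup.closure_induction_left generalizing n with
    | one => rw [one_mul, inv_one, mul_one]; exact hn
    | mul_left x hx y _ ih =>
      have e : x * y * n * (x * y)⁻¹ = x * (y * n * y⁻¹) * x⁻¹ := by group
      rw [e]
      exact hgenN x (h4 x hx) _ (ih n hn)
    | inv_mul_cancel x hx y _ ih =>
      have e : x⁻¹ * y * n * (x⁻¹ * y)⁻¹ = x⁻¹ * (y * n * y⁻¹) * x⁻¹⁻¹ := by group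
      rw [e]
      exact hgenN x⁻¹ (by rw [inv_pow, h4 x hx, inv_one]) _ (ih n hn)
  -- the torus element
  obtain ⟨Z, hZ1, hZ2, hZ3, hZ4⟩ := exists_tor hr2 hp2 hq hφ hker hτ el fix hEa hact he₀ hne
  have hZH : ψ Z ∈ H := cent Ea hEa hiEa _ (or_of_fix hτ hZ1) hZ4
  obtain ⟨z, rfl⟩ := exists_of_fix φ hZ1
  have := finite_FF φ hq hφ
  have htop : N = ⊤ := eq_top_of_normal (r := r) (p := p) hr2 hp2 hpr N (z := z) (memN.2 hZH)
    (map_sub_injective φ (by rw [map_pow, hZ2, map_one])) (fun h => hZ3 (by rw [h, map_one]))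
  obtain ⟨a, rfl⟩ := exists_of_fix φ hA
  exact memN.1 (by rw [htop]; exact Subgroup.mem_top a)

end Main

end Cfsg.Agent.H655.Mono
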